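import Mathlib

/-! Square-zero matrices over a field: a normal form depending only on the rank. -/

set_option autoImplicit false

namespace Cfsg.Agent.Lib.SquareZero

open Module

variable {F : Type*} [Field F] {n : ℕ}

/-- The index model: `u`-vectors, kernel complement, image vectors. -/
abbrev SqIdx (r k : ℕ) : Type := Fin r ⊕ (Fin k ⊕ Fin r)

/-- The model matrix `u_i ↦ w_i`. -/
def model (F : Type*) [Field F] (r k : ℕ) : Matrix (SqIdx r k) (SqIdx r k) F :=
  Matrix.of fun s t => match s, t with
    | .inr (.inr i), .inl j => if i = j then 1 else 0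
    | _, _ => 0

theorem exists_adapted_basis {V : Type*} [AddCommGroup V] [Module F V] [FiniteDimensional F V]
    (T : V →ₗ[F] V) (hle : LinearMap.range T ≤ LinearMap.ker T) {r : ℕ}
    (hr : finrank F (LinearMap.range T) = r) :
    ∃ k, finrank F V = r + (k + r) ∧ ∃ v : SqIdx r k → V, LinearIndependent F v ∧
      (∀ i, T (v (.inl i)) = v (.inr (.inr i))) ∧
      (∀ s : Fin k ⊕ Fin r, T (v (.inr s)) = 0) := by
  obtain ⟨Z, hZ⟩ :=
    Submodule.exists_isCompl ((LinearMap.range T).comap (LinearMap.ker T).subtype)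
  obtain ⟨R, hRdef⟩ : ∃ R : Submodule F (LinearMap.ker T),
    R = (LinearMap.range T).comap (LinearMap.ker T).subtype := ⟨_, rfl⟩
  rw [← hRdef] at hZ
  have hR : finrank F R = r := by
    subst hRdef; exact (Submodule.comapSubtypeEquivOfLe hle).finrank_eq.trans hr
  have hn : finrank F V = r + (finrank F Z + r) := by
    have h1 := T.finrank_range_add_finrank_ker
    have h2 := Submodule.finrank_add_eq_of_isCompl hZ
    omega
  obtain ⟨bR⟩ : Nonempty (Basis (Fin r) F R) := ⟨finBasisOfFinrankEq F R hR⟩
  obtain ⟨bZ⟩ : Nonempty (Basis (Fin (finrank F Z)) F Z) := ⟨Module.finBasis F Z⟩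
  have hmem : ∀ i, ((bR i).val.val) ∈ LinearMap.range T := fun i => by
    have h := (bR i).2
    exact hRdef.le h
  choose u hu using hmem
  refine ⟨finrank F Z, hn,
    Sum.elim u (Sum.elim (fun i => (bZ i).val.val) (fun i => (bR i).val.val)), ?_, hu, ?_⟩
  · rw [Fintype.linearIndependent_iff]
    intro g hg
    simp only [Fintype.sum_sum_type, Sum.elim_inl, Sum.elim_inr] at hg
    have hK : ∀ x : LinearMap.ker T, T x.val = 0 := fun x => x.2
    have ha : ∀ i, g (.inl i) = 0 := by
      have h := congrArg T hg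
      simp only [map_add, map_sum, map_smul, hu, hK, smul_zero, Finset.sum_const_zero, add_zero,
        map_zero] at h
      have h' : ∑ i, g (.inl i) • bR i = 0 := by
        apply Subtype.ext; apply Subtype.ext
        simpa using h
      exact Fintype.linearIndependent_iff.mp bR.linearIndependent _ h'
    simp only [ha, zero_smul, Finset.sum_const_zero, zero_add] at hg
    obtain ⟨z, hz⟩ : ∃ z : Z, z = ∑ i, g (.inr (.inl i)) • bZ i := ⟨_, rfl⟩
    obtain ⟨w, hw⟩ : ∃ w : R, w = ∑ i, g (.inr (.inr i)) • bR i := ⟨_, rfl⟩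
    have hzw : z.val + w.val = 0 := by
      apply Subtype.ext
      simpa [hz, hw] using hg
    have hz0 : z.val = 0 :=
      (Submodule.disjoint_def.mp hZ.disjoint) _
        (by rw [eq_neg_of_add_eq_zero_left hzw]; exact R.neg_mem w.2) z.2
    have hb := Fintype.linearIndependent_iff.mp bZ.linearIndependent _
      (hz.symm.trans (Subtype.ext hz0))
    rw [hz0, zero_add] at hzw
    have hc := Fintype.linearIndependent_iff.mp bR.linearIndependent _
      (hw.symm.trans (Subtype.ext hzw))
    rintro (i | i | i)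
    exacts [ha i, hb i, hc i]
  · rintro (i | i)
    · exact (bZ i).val.2
    · exact (bR i).val.2

theorem exists_adapted_family (N : Matrix (Fin n) (Fin n) F) (hN : N * N = 0) {r : ℕ} (hr : N.rank = r) :
    ∃ k, n = r + (k + r) ∧ ∃ v : SqIdx r k → (Fin n → F), LinearIndependent F v ∧
      (∀ i, N.mulVec (v (.inl i)) = v (.inr (.inr i))) ∧
      (∀ s : Fin k ⊕ Fin r, N.mulVec (v (.inr s)) = 0) := by
  obtain ⟨k, hk, hv⟩ := exists_adapted_basis N.mulVecLin (by
    rintro _ ⟨x, rfl⟩
    show N.mulVec (N.mulVec x) = 0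
    rw [Matrix.mulVec_mulVec, hN, Matrix.zero_mulVec]) (r := r) hr
  rw [finrank_pi, Fintype.card_fin] at hk
  exact ⟨k, hk, hv⟩

/-- Two square-zero matrices of the same rank are similar. -/
theorem exists_normalForm (N : Matrix (Fin n) (Fin n) F) (hN : N * N = 0) {r : ℕ} (hr : N.rank = r)
    (e : SqIdx r (n - 2 * r) ≃ Fin n) :
    ∃ P : Matrix (Fin n) (Fin n) F, IsUnit P ∧ N * P = P * (model F r (n - 2 * r)).submatrix e.symm e.symm := by
  classical
  obtain ⟨k, hk, v, hv, h1, h2⟩ := exists_adapted_family N hN hr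
  obtain rfl : k = n - 2 * r := by omega
  let P : Matrix (Fin n) (Fin n) F := Matrix.of fun i j => v (e.symm j) i
  refine ⟨P, ?_, ?_⟩
  · rw [← Matrix.linearIndependent_cols_iff_isUnit]
    exact hv.comp _ e.symm.injective
  · ext i j
    rw [Matrix.mul_apply, Matrix.mul_apply, ← e.sum_comp (fun l => P i l * _)]
    show N.mulVec (v (e.symm j)) i = _
    simp only [P, Matrix.of_apply, Matrix.submatrix_apply, Equiv.symm_apply_apply, Fintype.sum_sum_type]
    rcases e.symm j with a | b
    · rw [h1]
      simp [model]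
    · rw [h2]
      simp [model]

/-- The model commutes with a diagonal matrix of any square determinant, when `r ≠ 0`. -/
theorem exists_centralizer_det (r : ℕ) (hr : r ≠ 0) (e : SqIdx r (n - 2 * r) ≃ Fin n) (c : F) :
    ∃ D : Matrix (Fin n) (Fin n) F,
      D * (model F r (n - 2 * r)).submatrix e.symm e.symm = (model F r (n - 2 * r)).submatrix e.symm e.symm * D ∧
      D.det = c ^ 2 := by
  classical
  let d : SqIdx r (n - 2 * r) → F := fun s => match s with
    | .inl i => if i.val = 0 then c else 1
    | .inr (.inl _) => 1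
    | .inr (.inr i) => if i.val = 0 then c else 1
  refine ⟨Matrix.diagonal (d ∘ e.symm), ?_, ?_⟩
  · ext i j
    simp only [Matrix.diagonal_mul, Matrix.mul_diagonal, Matrix.submatrix_apply, Function.comp_apply]
    rcases e.symm i with a | a | a <;> rcases e.symm j with b | b | b <;> simp [model, d]
    rcases eq_or_ne a b with rfl | h <;> simp [*]
  · rw [Matrix.det_diagonal, show ∏ i, (d ∘ e.symm) i = ∏ s, d s from e.symm.prod_comp d]
    obtain ⟨r', rfl⟩ : ∃ r', r = r' + 1 := ⟨r - 1, by omega⟩
    simp [d, Fintype.prod_sum_type, Fin.prod_univ_succ, pow_two]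

end Cfsg.Agent.Lib.SquareZero
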